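import Cfsg.Agent.Lib.SteinbergPres.Cover.Small
import Cfsg.Agent.Lib.Chev.All

/-!
The tables for the fields with three and four elements.
-/

set_option autoImplicit false
set_option maxRecDepth 8000

namespace Cfsg.Agent.Lib.SteinbergPres.Cover

open Cfsg.Lie Cfsg.Agent.Lib.Chev

/-- exchanging words for D₄ -/
def swapsD4 : List (ℕ × ℕ × List ℕ) := [
  (0, 5, [1, 2, 3, 1]), (0, 10, [1, 0, 3, 1]), (0, 11, [1, 0, 2, 1]), (0, 12, [3, 1, 0, 2, 1, 3]),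
  (0, 13, [2, 1, 0, 3, 1, 2]), (0, 18, [0, 1, 2, 3, 1, 0]), (1, 4, [2, 3]), (1, 7, [0, 3]),
  (1, 8, [0, 2]), (1, 15, [3, 1, 0, 2, 1, 3]), (1, 16, [2, 1, 0, 3, 1, 2]), (1, 19, [0, 1, 2, 3, 1, 0]),
  (2, 3, [2, 3]), (2, 6, [0, 3]), (2, 9, [0, 2]), (2, 14, [1, 0, 2, 1]),
  (2, 17, [2, 0, 1, 0, 3, 1, 0, 2]), (2, 20, [0, 2, 1, 2, 3, 1, 0, 2]), (3, 6, [0, 2]), (3, 9, [0, 3]),
  (3, 14, [1, 0, 3, 1]), (3, 17, [0, 2, 3, 1, 0, 2, 1, 3]), (3, 21, [0, 2, 1, 2, 3, 1, 0, 2]),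
  (4, 7, [0, 2]), (4, 8, [0, 3]), (4, 15, [1, 0, 3, 1, 0, 3]), (4, 16, [1, 0, 2, 1, 0, 2]),
  (4, 22, [0, 1, 2, 3, 1, 0]), (5, 10, [1, 0, 2, 1]), (5, 11, [1, 0, 3, 1]), (5, 12, [1, 0, 3, 1, 0, 3]),
  (5, 13, [1, 0, 2, 1, 0, 2]), (5, 23, [0, 1, 2, 3, 1, 0]), (6, 9, [2, 3]), (6, 14, [1, 2, 3, 1]),
  (6, 20, [0, 2, 3, 1, 0, 2, 1, 3]), (6, 21, [2, 0, 1, 0, 3, 1, 0, 2]), (7, 8, [2, 3]),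
  (7, 15, [1, 2, 3, 1, 2, 3]), (7, 19, [1, 0, 2, 1, 0, 2]), (7, 22, [2, 1, 0, 3, 1, 2]),
  (8, 16, [1, 2, 3, 1, 2, 3]), (8, 19, [1, 0, 3, 1, 0, 3]), (8, 22, [3, 1, 0, 2, 1, 3]),
  (9, 17, [1, 2, 3, 1]), (9, 20, [1, 0, 3, 1]), (9, 21, [1, 0, 2, 1]), (10, 11, [1, 2, 3, 1]),
  (10, 12, [1, 2, 3, 1, 2, 3]), (10, 18, [1, 0, 2, 1, 0, 2]), (10, 23, [2, 1, 0, 3, 1, 2]),
  (11, 13, [1, 2, 3, 1, 2, 3]), (11, 18, [1, 0, 3, 1, 0, 3]), (11, 23, [3, 1, 0, 2, 1, 3]),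
  (12, 13, [1, 2, 3, 1]), (12, 18, [1, 0, 3, 1]), (12, 23, [1, 0, 2, 1]), (13, 18, [1, 0, 2, 1]),
  (13, 23, [1, 0, 3, 1]), (14, 17, [2, 3]), (14, 20, [0, 3]), (14, 21, [0, 2]), (15, 16, [2, 3]),
  (15, 19, [0, 3]), (15, 22, [0, 2]), (16, 19, [0, 2]), (16, 22, [0, 3]), (17, 20, [0, 2]),
  (17, 21, [0, 3]), (18, 23, [1, 2, 3, 1]), (19, 22, [2, 3]), (20, 21, [2, 3])]

/-- exchanging words for F₄ -/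
def swapsF4 : List (ℕ × ℕ × List ℕ) := [
  (0, 6, [3, 2, 1, 2, 3]), (0, 17, [0, 3, 2, 1, 0, 2, 3]), (0, 22, [3, 1, 0, 2, 1, 0, 2, 1, 3]),
  (0, 25, [2, 3, 1, 0, 2, 1, 0, 2, 1, 3, 2]), (0, 30, [1, 2, 3, 1, 0, 2, 1, 0, 2, 1, 3, 2, 1]),
  (0, 41, [0, 1, 2, 3, 1, 0, 2, 1, 0, 2, 1, 3, 2, 1, 0]), (1, 5, [2, 1, 2]), (1, 16, [0, 2, 1, 0, 2]),
  (1, 21, [1, 0, 2, 1, 0, 2, 1]), (1, 26, [2, 3, 1, 0, 2, 1, 0, 2, 1, 3, 2]),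
  (1, 31, [1, 2, 3, 1, 0, 2, 1, 0, 2, 1, 3, 2, 1]),
  (1, 42, [0, 1, 2, 3, 1, 0, 2, 1, 0, 2, 1, 3, 2, 1, 0]), (2, 4, [1]), (2, 15, [0, 1, 0]),
  (2, 23, [1, 0, 2, 1, 0, 2, 1]), (2, 24, [3, 1, 0, 2, 1, 0, 2, 1, 3]),
  (2, 32, [1, 2, 3, 1, 0, 2, 1, 0, 2, 1, 3, 2, 1]),
  (2, 43, [0, 1, 2, 3, 1, 0, 2, 1, 0, 2, 1, 3, 2, 1, 0]), (4, 15, [0]), (4, 23, [0, 2, 1, 0, 2]),
  (4, 24, [0, 3, 2, 1, 0, 2, 3]), (4, 32, [2, 3, 1, 0, 2, 1, 0, 2, 1, 3, 2]),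
  (4, 45, [0, 1, 2, 3, 1, 0, 2, 1, 0, 2, 1, 3, 2, 1, 0]), (5, 16, [0]), (5, 21, [0, 1, 0]),
  (5, 26, [0, 3, 2, 1, 0, 2, 3]), (5, 31, [3, 1, 0, 2, 1, 0, 2, 1, 3]),
  (5, 46, [0, 1, 2, 3, 1, 0, 2, 1, 0, 2, 1, 3, 2, 1, 0]), (6, 17, [0]), (6, 22, [0, 1, 0]),
  (6, 25, [0, 2, 1, 0, 2]), (6, 30, [1, 0, 2, 1, 0, 2, 1]),
  (6, 47, [0, 1, 2, 3, 1, 0, 2, 1, 0, 2, 1, 3, 2, 1, 0]), (15, 23, [2, 1, 2]), (15, 24, [3, 2, 1, 2, 3]),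
  (15, 43, [2, 3, 1, 0, 2, 1, 0, 2, 1, 3, 2]), (15, 45, [1, 2, 3, 1, 0, 2, 1, 0, 2, 1, 3, 2, 1]),
  (16, 21, [1]), (16, 26, [3, 2, 1, 2, 3]), (16, 42, [3, 1, 0, 2, 1, 0, 2, 1, 3]),
  (16, 46, [1, 2, 3, 1, 0, 2, 1, 0, 2, 1, 3, 2, 1]), (17, 22, [1]), (17, 25, [2, 1, 2]),
  (17, 41, [1, 0, 2, 1, 0, 2, 1]), (17, 47, [1, 2, 3, 1, 0, 2, 1, 0, 2, 1, 3, 2, 1]),
  (21, 31, [3, 2, 1, 2, 3]), (21, 42, [0, 3, 2, 1, 0, 2, 3]),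
  (21, 46, [2, 3, 1, 0, 2, 1, 0, 2, 1, 3, 2]), (22, 30, [2, 1, 2]), (22, 41, [0, 2, 1, 0, 2]),
  (22, 47, [2, 3, 1, 0, 2, 1, 0, 2, 1, 3, 2]), (23, 32, [3, 2, 1, 2, 3]),
  (23, 43, [0, 3, 2, 1, 0, 2, 3]), (23, 45, [3, 1, 0, 2, 1, 0, 2, 1, 3]), (24, 32, [2, 1, 2]),
  (24, 43, [0, 2, 1, 0, 2]), (24, 45, [1, 0, 2, 1, 0, 2, 1]), (25, 30, [1]), (25, 41, [0, 1, 0]),
  (25, 47, [3, 1, 0, 2, 1, 0, 2, 1, 3]), (26, 31, [1]), (26, 42, [0, 1, 0]),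
  (26, 46, [1, 0, 2, 1, 0, 2, 1]), (30, 41, [0]), (30, 47, [0, 3, 2, 1, 0, 2, 3]), (31, 42, [0]),
  (31, 46, [0, 2, 1, 0, 2]), (32, 43, [0]), (32, 45, [0, 1, 0]), (41, 47, [3, 2, 1, 2, 3]),
  (42, 46, [2, 1, 2]), (43, 45, [1])]

theorem four_B2 : check4 B2.fast = true := by decide +kernel
theorem four_D4 : check4 D4.fast = true := by decide +kernel
theorem four_F4 : check4 F4.fast = true := by decide +kernel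
theorem four_E6 : check4 E6.fast = true := by decide +kernel
theorem four_E7 : check4 E7.fast = true := by decide +kernel

theorem three_D4 : check3 D4.fast swapsD4 = true := by decide +kernel
theorem three_F4 : check3 F4.fast swapsF4 = true := by decide +kernel
theorem three_E6 : check3 E6.fast [] = true := by decide +kernel
theorem three_E7 : check3 E7.fast [] = true := by decide +kernel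

end Cfsg.Agent.Lib.SteinbergPres.Cover
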